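import Groth.Agent.Lib.Helper39.Serre.Setup

/-! The Eisenbud–Evans style induction on the maximal spectrum. -/

namespace Groth.Agent.Lib.Helper39.Serre

universe u

open Module Function TopologicalSpace

noncomputable section

variable {R : Type u} [CommRing R] {M : Type u} [AddCommGroup M] [Module R M]

/-- `t` is independent of `s` generically on every irreducible closed set of codimension `< k`
not contained in `F`. -/
def Good {h : ℕ} (s : Fin h → M) (F : Set (MaximalSpectrum R)) (k : ℕ) (t : M) : Prop :=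
  ∀ (W : IrreducibleCloseds (MaximalSpectrum R)) (c : ℕ), Order.coheight W = (c : ℕ∞) → c < k →
    ((W : Set (MaximalSpectrum R)) ∩ Fᶜ).Nonempty →
      ∃ x ∈ (W : Set (MaximalSpectrum R)) ∩ Fᶜ, qK s x t ≠ 0

theorem step [NoetherianSpace (MaximalSpectrum R)] {h : ℕ} (s : Fin h → M)
    (F : Set (MaximalSpectrum R)) (hF : IsClosed F)
    (hs : ∀ x, x ∉ F → LinearIndependent (kx x) (fun i => evK x (s i)))
    (k v : ℕ) (y : Fin (v + 1) → M) (hy : HypT Fᶜ k (v + 1) (fun x => rho s x y)) :
    ∃ a : Fin v → R, HypT Fᶜ k v (fun x => rho s x (modif y a)) := by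
  obtain ⟨B, hB, htrans⟩ := step_top Fᶜ k v (fun x => rho s x y)
    (fun r => isOpen_rho s F hF hs y r) hy
  obtain ⟨a, ha⟩ := exists_modif s y B (fun x hx => (hB x hx).2)
  exact ⟨a, htrans _ (fun x => rho_le_modif_add_one s x y a) ha⟩

theorem good_of_hyp_one {h : ℕ} (s : Fin h → M) (F : Set (MaximalSpectrum R)) (k : ℕ)
    (y : Fin 1 → M) (hy : HypT Fᶜ k 1 (fun x => rho s x y)) : Good s F k (y 0) := by
  intro W c hc hck hne
  obtain ⟨x, hxW, hx⟩ := hy W c hc hck hne
  refine ⟨x, hxW, ?_⟩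
  intro h0
  have hrho : rho s x y = 0 := by
    unfold rho rkV
    have : Submodule.span (kx x) (Set.range fun j => qK s x (y j)) = ⊥ := by
      rw [Submodule.span_eq_bot]
      rintro _ ⟨j, rfl⟩
      have : j = 0 := Subsingleton.elim _ _
      rw [this]
      exact h0
    rw [this]
    exact finrank_bot _ _
  simp only [hrho] at hx
  omega

theorem exists_basic [NoetherianSpace (MaximalSpectrum R)] {h : ℕ} (s : Fin h → M)
    (F : Set (MaximalSpectrum R)) (hF : IsClosed F)
    (hs : ∀ x, x ∉ F → LinearIndependent (kx x) (fun i => evK x (s i))) (k : ℕ) :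
    ∀ (v : ℕ) (y : Fin (v + 1) → M), HypT Fᶜ k (v + 1) (fun x => rho s x y) →
      ∃ b : Fin v → R, Good s F k (y 0 + ∑ j, b j • y (Fin.succ j))
  | 0, y, hy => ⟨fun _ => 0, by simpa using good_of_hyp_one s F k y hy⟩
  | v + 1, y, hy => by
    obtain ⟨a, ha⟩ := step s F hF hs k (v + 1) y hy
    obtain ⟨b', hb'⟩ := exists_basic s F hF hs k v (modif y a) ha
    refine ⟨Fin.snoc b' (a 0 + ∑ j, b' j * a (Fin.succ j)), ?_⟩
    have key : y 0 + ∑ j, (Fin.snoc b' (a 0 + ∑ j, b' j * a (Fin.succ j)) : Fin (v + 1) → R) j •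
        y (Fin.succ j) = modif y a 0 + ∑ j, b' j • modif y a (Fin.succ j) := by
      rw [Fin.sum_univ_castSucc]
      simp only [Fin.snoc_castSucc, Fin.snoc_last, modif, Fin.castSucc_zero, Fin.succ_last,
        Fin.succ_castSucc, smul_add, Finset.sum_add_distrib, add_smul, Finset.sum_smul, mul_smul]
      abel
    rw [key]
    exact hb'

end

end Groth.Agent.Lib.Helper39.Serre
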