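import Groth.Agent.Lib.Helper39.Serre.Basic

/-! The core existence statement: a modification of `t₀` by an element of `I(F) M` which is
independent of `s` in codimension `< k` outside `F`. -/

namespace Groth.Agent.Lib.Helper39.Serre

universe u

open Module Function TopologicalSpace

noncomputable section

variable {R : Type u} [CommRing R] {M : Type u} [AddCommGroup M] [Module R M]

theorem exists_finite_cover [NoetherianSpace (MaximalSpectrum R)] (F : Set (MaximalSpectrum R))
    (hF : IsClosed F) :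
    ∃ T : Finset R, (∀ c ∈ T, ∀ x ∈ F, c ∈ x.asIdeal) ∧
      ∀ x, x ∉ F → ∃ c ∈ T, c ∉ x.asIdeal := by
  classical
  obtain ⟨t, ht, rfl⟩ := isClosed_induced_iff.1 hF
  obtain ⟨S, rfl⟩ := (PrimeSpectrum.isClosed_iff_zeroLocus t).1 ht
  have hmem : ∀ x : MaximalSpectrum R,
      x ∈ MaximalSpectrum.toPrimeSpectrum ⁻¹' PrimeSpectrum.zeroLocus S ↔ S ⊆ x.asIdeal := by
    intro x
    rfl
  have hcomp : IsCompact ((MaximalSpectrum.toPrimeSpectrum ⁻¹' PrimeSpectrum.zeroLocus S)ᶜ :
      Set (MaximalSpectrum R)) := NoetherianSpace.isCompact _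
  obtain ⟨T', hT'⟩ := hcomp.elim_finite_subcover
    (fun c : S => {x : MaximalSpectrum R | (c : R) ∉ x.asIdeal})
    (fun c => (PrimeSpectrum.basicOpen (c : R)).isOpen.preimage
      MaximalSpectrum.toPrimeSpectrum_continuous)
    (by
      intro x hx
      rw [Set.mem_compl_iff, hmem, Set.not_subset] at hx
      obtain ⟨c, hcS, hcx⟩ := hx
      exact Set.mem_iUnion.2 ⟨⟨c, hcS⟩, hcx⟩)
  refine ⟨T'.image Subtype.val, ?_, ?_⟩
  · intro c hc x hx
    rw [Finset.mem_image] at hc
    obtain ⟨c', _, rfl⟩ := hc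
    exact (hmem x).1 hx c'.2
  · intro x hx
    have := hT' hx
    simp only [Set.mem_iUnion, Set.mem_setOf_eq, exists_prop] at this
    obtain ⟨c', hc'T, hc'x⟩ := this
    exact ⟨c'.1, Finset.mem_image.2 ⟨c', hc'T, rfl⟩, hc'x⟩

theorem serre_core [NoetherianSpace (MaximalSpectrum R)] [Module.Finite R M] {h : ℕ}
    (s : Fin h → M) (F : Set (MaximalSpectrum R)) (hF : IsClosed F)
    (hs : ∀ x, x ∉ F → LinearIndependent (kx x) (fun i => evK x (s i))) (k : ℕ)
    (hdim : ∀ x, x ∉ F → ∃ w : Fin k → M, LinearIndependent (kx x) (fun b => qK s x (w b)))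
    (t₀ : M) :
    ∃ (N : ℕ) (c : Fin N → R) (m : Fin N → M), (∀ i, ∀ x ∈ F, c i ∈ x.asIdeal) ∧
      Good s F k (t₀ + ∑ i, c i • m i) := by
  classical
  obtain ⟨n, g, hg⟩ := Module.Finite.exists_fin (R := R) (M := M)
  obtain ⟨T, hT1, hT2⟩ := exists_finite_cover F hF
  let e : Fin (Fintype.card (T × Fin n)) ≃ T × Fin n := (Fintype.equivFin (T × Fin n)).symm
  let y : Fin (Fintype.card (T × Fin n) + 1) → M :=
    Fin.cons t₀ (fun i => ((e i).1 : R) • g (e i).2)
  have hy : HypT Fᶜ k (Fintype.card (T × Fin n) + 1) (fun x => rho s x y) := by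
    intro W c hc hck hne
    obtain ⟨x, hxW, hxF⟩ := hne
    refine ⟨x, ⟨hxW, hxF⟩, Or.inr ?_⟩
    suffices k ≤ rho s x y by
      show k ≤ c + rho s x y
      omega
    obtain ⟨w, hw⟩ := hdim x hxF
    obtain ⟨c₀, hc₀T, hc₀x⟩ := hT2 x hxF
    have hunit : Ideal.Quotient.mk x.asIdeal c₀ ≠ 0 := by
      rwa [Ne, Ideal.Quotient.eq_zero_iff_mem]
    have hall : ∀ m : M, qK s x m ∈
        Submodule.span (kx x) (Set.range fun j => qK s x (y j)) := by
      intro m
      have hm : m ∈ Submodule.span R (Set.range g) := by rw [hg]; trivial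
      induction hm using Submodule.span_induction with
      | mem m hm =>
        obtain ⟨j, rfl⟩ := hm
        have h1 : qK s x (c₀ • g j) ∈
            Submodule.span (kx x) (Set.range fun j => qK s x (y j)) := by
          refine Submodule.subset_span ⟨Fin.succ (e.symm (⟨c₀, hc₀T⟩, j)), ?_⟩
          simp only [y, Fin.cons_succ, Equiv.apply_symm_apply]
        rw [qK_smul] at h1
        have h2 := Submodule.smul_mem _ (Ideal.Quotient.mk x.asIdeal c₀)⁻¹ h1
        rwa [smul_smul, inv_mul_cancel₀ hunit, one_smul] at h2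
      | zero => rw [qK_zero]; exact Submodule.zero_mem _
      | add m m' _ _ ih ih' => rw [qK_add]; exact Submodule.add_mem _ ih ih'
      | smul a m _ ih => rw [qK_smul]; exact Submodule.smul_mem _ _ ih
    have hle : Submodule.span (kx x) (Set.range fun b => qK s x (w b)) ≤
        Submodule.span (kx x) (Set.range fun j => qK s x (y j)) := by
      refine Submodule.span_le.2 ?_
      rintro _ ⟨b, rfl⟩
      exact hall (w b)
    haveI : Module.Finite (kx x) (Submodule.span (kx x) (Set.range fun j => qK s x (y j))) :=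
      Module.Finite.span_of_finite _ (Set.finite_range _)
    have h3 := Submodule.finrank_mono hle
    rw [finrank_span_eq_card hw, Fintype.card_fin] at h3
    exact h3
  obtain ⟨b, hb⟩ := exists_basic s F hF hs k _ y hy
  refine ⟨_, fun j => b j * ((e j).1 : R), fun j => g (e j).2, ?_, ?_⟩
  · intro i x hx
    exact Ideal.mul_mem_left _ _ (hT1 _ (e i).1.2 x hx)
  · have heq : t₀ + ∑ j, (b j * ((e j).1 : R)) • g (e j).2 =
        y 0 + ∑ j, b j • y (Fin.succ j) := by
      congr 1
      refine Finset.sum_congr rfl fun j _ => ?_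
      simp only [y, Fin.cons_succ, mul_smul]
    rw [heq]
    exact hb

end

end Groth.Agent.Lib.Helper39.Serre
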