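import Groth.Agent.Lib.Helper39.Serre.Main

/-! Serre's theorem: final assembly. -/

namespace Groth.Agent.Lib.Helper39.Serre

universe u

open Module Function TopologicalSpace

noncomputable section

variable {R : Type u} [CommRing R] {M : Type u} [AddCommGroup M] [Module R M]

theorem snoc_img (x : MaximalSpectrum R) {h : ℕ} (s : Fin h → M) (t : M) :
    (Fin.snoc (fun i => img x (s i)) (img x t) :
      Fin (h + 1) → (M ⧸ (x.asIdeal • ⊤ : Submodule R M)) ⧸ Bq (M := M) x) =
      fun i => img x ((Fin.snoc s t : Fin (h + 1) → M) i) := by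
  funext i
  refine Fin.lastCases ?_ (fun i => ?_) i
  · simp only [Fin.snoc_last]
  · simp only [Fin.snoc_castSucc]

theorem snoc_evK (x : MaximalSpectrum R) {h : ℕ} (s : Fin h → M) (t : M) :
    (fun i => evK x ((Fin.snoc s t : Fin (h + 1) → M) i)) =
      (Fin.snoc (fun i => evK x (s i)) (evK x t) : Fin (h + 1) → ((M →ₗ[R] R) → kx x)) := by
  funext i
  refine Fin.lastCases ?_ (fun i => ?_) i
  · simp only [Fin.snoc_last]
  · simp only [Fin.snoc_castSucc]

theorem li_snoc_of_qK_ne_zero (x : MaximalSpectrum R) {h : ℕ} (s : Fin h → M) (t : M)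
    (hs : LinearIndependent (kx x) (fun i => evK x (s i))) (ht : qK s x t ≠ 0) :
    LinearIndependent (kx x) (fun i => evK x ((Fin.snoc s t : Fin (h + 1) → M) i)) := by
  rw [snoc_evK]
  refine linearIndependent_finSnoc.2 ⟨hs, ?_⟩
  intro hmem
  apply ht
  rw [qK, Submodule.mkQ_apply, Submodule.Quotient.mk_eq_zero]
  exact hmem

theorem serre_main [NoetherianSpace (MaximalSpectrum R)] [Module.Finite R M]
    (h : ℕ) (s : Fin h → M) (F : Set (MaximalSpectrum R)) (hF : IsClosed F)
    (n : ℕ) (xs : Fin n → MaximalSpectrum R) (hxs : Function.Injective xs)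
    (hxF : ∀ i, xs i ∈ F)
    (v : ∀ i : Fin n, M ⧸ ((xs i).asIdeal • ⊤ : Submodule R M)) (k : ℕ)
    (hdim : ∀ x : MaximalSpectrum R, h + k ≤ Module.finrank (R ⧸ x.asIdeal)
      ((M ⧸ (x.asIdeal • ⊤ : Submodule R M)) ⧸ Bq (M := M) x))
    (hZ : ∀ x : MaximalSpectrum R,
      ¬ LinearIndependent (R ⧸ x.asIdeal) (fun i => img x (s i)) → x ∈ F) :
    ∃ (t : M) (F' : Set (MaximalSpectrum R)), IsClosed F' ∧
      (∀ i : Fin n, img (xs i) t = (Bq (xs i)).mkQ (v i)) ∧
      (∀ x : MaximalSpectrum R,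
        ¬ LinearIndependent (R ⧸ x.asIdeal) (Fin.snoc (fun i => img x (s i)) (img x t)) →
          x ∈ F ∪ F') ∧
      ∀ Z : IrreducibleCloseds (MaximalSpectrum R), (Z : Set (MaximalSpectrum R)) ⊆ F' →
        (k : ℕ∞) ≤ Order.coheight Z := by
  classical
  have hsimg : ∀ x, x ∉ F → LinearIndependent (R ⧸ x.asIdeal) (fun i => img x (s i)) := by
    intro x hx
    by_contra hcon
    exact hx (hZ x hcon)
  have hs : ∀ x, x ∉ F → LinearIndependent (kx x) (fun i => evK x (s i)) :=
    fun x hx => (li_img_iff x s).1 (hsimg x hx)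
  have hdim' : ∀ x, x ∉ F →
      ∃ w : Fin k → M, LinearIndependent (kx x) (fun b => qK s x (w b)) :=
    fun x hx => exists_indep_of_finrank x s (hsimg x hx) k (hdim x)
  obtain ⟨t₀, ht₀⟩ := exists_crt xs hxs v
  obtain ⟨N, c, m, hc, hgood⟩ := serre_core s F hF hs k hdim' t₀
  set t := t₀ + ∑ i, c i • m i with ht
  let A : Set (MaximalSpectrum R) := {x | x ∉ F ∧
    ¬ LinearIndependent (R ⧸ x.asIdeal) (Fin.snoc (fun i => img x (s i)) (img x t))}
  refine ⟨t, closure A, isClosed_closure, ?_, ?_, ?_⟩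
  · intro i
    rw [img, ht, map_add, map_sum, ht₀]
    have : ∑ j, ((xs i).asIdeal • ⊤ : Submodule R M).mkQ (c j • m j) = 0 :=
      Finset.sum_eq_zero fun j _ => mkQ_smul_eq_zero (xs i) (c j) (hc j _ (hxF i)) (m j)
    rw [this, add_zero]
  · intro x hx
    by_cases hxF' : x ∈ F
    · exact Or.inl hxF'
    · exact Or.inr (subset_closure ⟨hxF', hx⟩)
  · intro Z hZA
    by_contra hcon
    rw [not_le] at hcon
    have hfin : Order.coheight Z ≠ ⊤ := ne_top_of_lt hcon
    obtain ⟨c₀, hc₀⟩ := ENat.ne_top_iff_exists.1 hfin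
    have hc₀k : c₀ < k := by
      rw [← hc₀] at hcon
      exact_mod_cast hcon
    obtain ⟨W, hZW, hWA, hWne⟩ := exists_irred_superset A F (fun a ha => ha.1) Z hZA
    have hcoW : Order.coheight W ≤ Order.coheight Z := Order.coheight_anti hZW
    have hfinW : Order.coheight W ≠ ⊤ := ne_top_of_le_ne_top hfin hcoW
    obtain ⟨c₁, hc₁⟩ := ENat.ne_top_iff_exists.1 hfinW
    have hc₁c₀ : c₁ ≤ c₀ := by
      rw [← hc₀, ← hc₁] at hcoW
      exact_mod_cast hcoW
    obtain ⟨x, ⟨hxW, hxF'⟩, hx⟩ := hgood W c₁ hc₁.symm (by omega) hWne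
    -- the dependency locus is closed
    have hclosed : IsClosed {x : MaximalSpectrum R | ¬ LinearIndependent (kx x)
        (fun i => evK x ((Fin.snoc s t : Fin (h + 1) → M) i))} := by
      have := (isOpen_li (R := R) (Fin.snoc s t : Fin (h + 1) → M)).isClosed_compl
      exact this
    have hAsub : A ⊆ {x : MaximalSpectrum R | ¬ LinearIndependent (kx x)
        (fun i => evK x ((Fin.snoc s t : Fin (h + 1) → M) i))} := by
      rintro a ⟨_, ha⟩
      rw [snoc_img, li_img_iff] at ha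
      exact ha
    have hxmem := closure_minimal hAsub hclosed (hWA hxW)
    exact hxmem (li_snoc_of_qK_ne_zero x s t (hs x hxF') hx)

end

end Groth.Agent.Lib.Helper39.Serre
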