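import Mathlib

/-! Linear algebra over a field used in Serre's theorem on maximal spectra. -/

namespace Groth.Agent.Lib.Helper39.Serre

open Module

section LinAlg

variable (K : Type*) {V : Type*} [Field K] [AddCommGroup V] [Module K V]

/-- The rank of a family of vectors. -/
noncomputable def rkV {J : Type*} (Y : J → V) : ℕ :=
  finrank K (Submodule.span K (Set.range Y))

theorem rkV_le_card {J : Type*} [Fintype J] (Y : J → V) : rkV K Y ≤ Fintype.card J :=
  finrank_range_le_card (R := K) Y

variable {K}

/-- Distribute the last vector over the others. -/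
def modifV {v : ℕ} (Y : Fin (v + 1) → V) (a : Fin v → K) : Fin v → V :=
  fun j => Y (Fin.castSucc j) + a j • Y (Fin.last v)

theorem span_le_modifV {v : ℕ} (Y : Fin (v + 1) → V) (a : Fin v → K) :
    Submodule.span K (Set.range Y) ≤
      Submodule.span K (Set.range (modifV Y a)) ⊔ Submodule.span K {Y (Fin.last v)} := by
  refine Submodule.span_le.2 ?_
  rintro _ ⟨j, rfl⟩
  refine Fin.lastCases ?_ (fun j => ?_) j
  · exact Submodule.mem_sup_right (Submodule.mem_span_singleton_self _)
  · have : Y (Fin.castSucc j) = modifV Y a j - a j • Y (Fin.last v) := by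
      simp only [modifV]
      abel
    show Y (Fin.castSucc j) ∈ _
    rw [this]
    exact sub_mem (Submodule.mem_sup_left (Submodule.subset_span ⟨j, rfl⟩))
      (Submodule.smul_mem _ _ (Submodule.mem_sup_right (Submodule.mem_span_singleton_self _)))

theorem span_modifV_le {v : ℕ} (Y : Fin (v + 1) → V) (a : Fin v → K) :
    Submodule.span K (Set.range (modifV Y a)) ≤ Submodule.span K (Set.range Y) := by
  refine Submodule.span_le.2 ?_
  rintro _ ⟨j, rfl⟩
  exact add_mem (Submodule.subset_span ⟨_, rfl⟩)
    (Submodule.smul_mem _ _ (Submodule.subset_span ⟨_, rfl⟩))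

theorem rkV_le_modifV_add_one {v : ℕ} (Y : Fin (v + 1) → V) (a : Fin v → K) :
    rkV K Y ≤ rkV K (modifV Y a) + 1 := by
  haveI : Module.Finite K (Submodule.span K (Set.range (modifV Y a))) :=
    Module.Finite.span_of_finite K (Set.finite_range _)
  haveI : Module.Finite K (Submodule.span K {Y (Fin.last v)}) :=
    Module.Finite.span_of_finite K (Set.finite_singleton _)
  refine (Submodule.finrank_mono (span_le_modifV Y a)).trans ?_
  refine (Submodule.finrank_add_le_finrank_add_finrank _ _).trans ?_
  refine Nat.add_le_add_left ?_ _
  have := finrank_span_le_card (R := K) ({Y (Fin.last v)} : Set V)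
  simpa using this

theorem rkV_le_modifV_of_mem {v : ℕ} (Y : Fin (v + 1) → V) (a : Fin v → K)
    (h : Y (Fin.last v) ∈ Submodule.span K (Set.range (modifV Y a))) :
    rkV K Y ≤ rkV K (modifV Y a) := by
  haveI : Module.Finite K (Submodule.span K (Set.range (modifV Y a))) :=
    Module.Finite.span_of_finite K (Set.finite_range _)
  refine Submodule.finrank_mono ((span_le_modifV Y a).trans ?_)
  refine sup_le le_rfl ?_
  rw [Submodule.span_singleton_le_iff_mem]
  exact h

/-- In a dependent situation one can absorb the last vector. -/
theorem exists_modifV {v : ℕ} (Y : Fin (v + 1) → V) (h : rkV K Y < v + 1) :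
    ∃ a : Fin v → K, Y (Fin.last v) ∈ Submodule.span K (Set.range (modifV Y a)) := by
  classical
  by_cases hZ : Y (Fin.last v) ∈ Submodule.span K (Set.range fun j => Y (Fin.castSucc j))
  · refine ⟨fun _ => 0, ?_⟩
    have : modifV Y (fun _ => (0 : K)) = fun j => Y (Fin.castSucc j) := by
      funext j; simp [modifV]
    rw [this]; exact hZ
  · have hli : ¬ LinearIndependent K (fun j => Y (Fin.castSucc j)) := by
      intro hli
      have hsnoc : LinearIndependent K
          (Fin.snoc (fun j => Y (Fin.castSucc j)) (Y (Fin.last v)) : Fin (v + 1) → V) :=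
        linearIndependent_finSnoc.2 ⟨hli, hZ⟩
      have heq : (Fin.snoc (fun j => Y (Fin.castSucc j)) (Y (Fin.last v)) : Fin (v + 1) → V) = Y := by
        funext j
        refine Fin.lastCases ?_ (fun j => ?_) j
        · rw [Fin.snoc_last]
        · rw [Fin.snoc_castSucc]
      rw [heq] at hsnoc
      have hcard := linearIndependent_iff_card_eq_finrank_span.1 hsnoc
      rw [Fintype.card_fin, Set.finrank] at hcard
      unfold rkV at h
      omega
    obtain ⟨l, hsum, j0, hj0⟩ := Fintype.not_linearIndependent_iff.1 hli
    refine ⟨fun j => if j = j0 then 1 else 0, ?_⟩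
    set Z := Y (Fin.last v) with hZdef
    have key : ∑ j, l j • modifV Y (fun j => if j = j0 then (1 : K) else 0) j = l j0 • Z := by
      simp only [modifV, smul_add, Finset.sum_add_distrib, hsum, zero_add]
      rw [Finset.sum_eq_single j0]
      · simp [hZdef]
      · intro b _ hb
        simp [hb]
      · simp
    have hZeq : Z = (l j0)⁻¹ • ∑ j, l j • modifV Y (fun j => if j = j0 then (1 : K) else 0) j := by
      rw [key, smul_smul, inv_mul_cancel₀ hj0, one_smul]
    rw [hZeq]
    refine Submodule.smul_mem _ _ (Submodule.sum_mem _ fun j _ => Submodule.smul_mem _ _ ?_)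
    exact Submodule.subset_span ⟨j, rfl⟩

/-- Rank at least `w` iff there is an independent subfamily of size `w`. -/
theorem le_rkV_iff {J : Type*} [Finite J] (Y : J → V) (w : ℕ) :
    w ≤ rkV K Y ↔ ∃ c : Fin w → J, LinearIndependent K (Y ∘ c) := by
  classical
  constructor
  · intro h
    obtain ⟨κ', a, ha, hspan, hli⟩ := exists_linearIndependent' K Y
    have hfin : Finite κ' := Finite.of_injective a ha
    haveI : Fintype κ' := Fintype.ofFinite κ'
    have hcard : Fintype.card κ' = rkV K Y := by
      rw [linearIndependent_iff_card_eq_finrank_span.1 hli, Set.finrank, hspan, rkV]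
    obtain ⟨emb⟩ : Nonempty (Fin w ↪ κ') :=
      Function.Embedding.nonempty_of_card_le (by rw [Fintype.card_fin, hcard]; exact h)
    exact ⟨fun b => a (emb b), hli.comp emb emb.injective⟩
  · rintro ⟨c, hli⟩
    haveI : Module.Finite K (Submodule.span K (Set.range Y)) :=
      Module.Finite.span_of_finite K (Set.finite_range _)
    have hcard := linearIndependent_iff_card_eq_finrank_span.1 hli
    rw [Fintype.card_fin, Set.finrank] at hcard
    rw [hcard]
    refine Submodule.finrank_mono (Submodule.span_le.2 ?_)
    rintro _ ⟨b, rfl⟩
    exact Submodule.subset_span ⟨c b, rfl⟩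

end LinAlg

end Groth.Agent.Lib.Helper39.Serre

namespace Groth.Agent.Lib.Helper39.Serre

section Quot

variable {K : Type*} {V : Type*} [Field K] [AddCommGroup V] [Module K V]

/-- Independence of a combined family, read in the quotient by the span of the first part. -/
theorem li_sum_iff_quotient {ι ι' : Type*} (S : Submodule K V) (f : ι → V) (g : ι' → V)
    (hS : S = Submodule.span K (Set.range f)) (hf : LinearIndependent K f) :
    LinearIndependent K (Sum.elim f g) ↔ LinearIndependent K (fun j => S.mkQ (g j)) := by
  constructor
  · intro h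
    obtain ⟨_, hg, hdis⟩ := linearIndependent_sum.1 h
    have hg' : LinearIndependent K g := hg
    have hdis' : Disjoint (Submodule.span K (Set.range f)) (Submodule.span K (Set.range g)) :=
      hdis
    have := hg'.map (f := S.mkQ) (by rw [Submodule.ker_mkQ, hS]; exact hdis'.symm)
    exact this
  · intro h
    have hg : LinearIndependent K g := LinearIndependent.of_comp S.mkQ h
    refine linearIndependent_sum.2 ⟨hf, hg, ?_⟩
    show Disjoint (Submodule.span K (Set.range f)) (Submodule.span K (Set.range g))
    rw [Submodule.disjoint_def]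
    intro z hzf hzg
    obtain ⟨l, rfl⟩ := (Finsupp.mem_span_range_iff_exists_finsupp).1 hzg
    have h0 : S.mkQ (l.sum fun i a => a • g i) = 0 := by
      rw [Submodule.mkQ_apply, Submodule.Quotient.mk_eq_zero, hS]
      exact hzf
    have hl : Finsupp.linearCombination K (fun j => S.mkQ (g j)) l = 0 := by
      rw [Finsupp.linearCombination_apply]
      rw [Finsupp.sum, map_sum] at h0
      simpa [Finsupp.sum, map_smul] using h0
    have := linearIndependent_iff.1 h l hl
    rw [this]
    simp

end Quot

end Groth.Agent.Lib.Helper39.Serre
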