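import Groth.Agent.Lib.Helper39.Serre.Trans

/-! Serre's theorem on sections of modules over a ring with Noetherian maximal spectrum. -/

namespace Groth.Agent.Lib.Helper39.Serre

universe u

open Module Function TopologicalSpace

noncomputable section

variable {R : Type u} [CommRing R] {M : Type u} [AddCommGroup M] [Module R M]

theorem det_evK_ne_zero_iff (x : MaximalSpectrum R) {ι : Type*} [Fintype ι] [DecidableEq ι]
    (z : ι → M) (φ : ι → (M →ₗ[R] R)) :
    (Matrix.of fun a b => evK x (z b) (φ a)).det ≠ 0 ↔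
      (Matrix.of fun a b => φ a (z b)).det ∉ x.asIdeal := by
  have : (Matrix.of fun a b => evK x (z b) (φ a)) =
      (Ideal.Quotient.mk x.asIdeal).mapMatrix (Matrix.of fun a b => φ a (z b)) := by
    ext a b
    rfl
  rw [this, ← RingHom.map_det, Ne, Ideal.Quotient.eq_zero_iff_mem]

theorem isOpen_li {ι : Type*} [Fintype ι] [DecidableEq ι] (z : ι → M) :
    IsOpen {x : MaximalSpectrum R | LinearIndependent (kx x) (fun i => evK x (z i))} := by
  have : {x : MaximalSpectrum R | LinearIndependent (kx x) (fun i => evK x (z i))} =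
      ⋃ φ : ι → (M →ₗ[R] R), {x | (Matrix.of fun a b => φ a (z b)).det ∉ x.asIdeal} := by
    ext x
    simp only [Set.mem_setOf_eq, Set.mem_iUnion]
    rw [li_iff_exists_det']
    exact exists_congr fun φ => det_evK_ne_zero_iff x z φ
  rw [this]
  exact isOpen_iUnion fun φ => (PrimeSpectrum.basicOpen _).isOpen.preimage
    MaximalSpectrum.toPrimeSpectrum_continuous

theorem exists_irred_superset {Ω : Type*} [TopologicalSpace Ω] [NoetherianSpace Ω]
    (A F : Set Ω) (hAF : ∀ a ∈ A, a ∉ F) (Z : IrreducibleCloseds Ω)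
    (hZ : (Z : Set Ω) ⊆ closure A) :
    ∃ W : IrreducibleCloseds Ω, Z ≤ W ∧ (W : Set Ω) ⊆ closure A ∧
      ((W : Set Ω) ∩ Fᶜ).Nonempty := by
  classical
  obtain ⟨S, hSfin, hSclosed, hSirr, hSU⟩ :=
    NoetherianSpace.exists_finite_set_isClosed_irreducible (isClosed_closure (s := A))
  let S' : Finset (Set Ω) := hSfin.toFinset.filter fun C => (C ∩ Fᶜ).Nonempty
  have hS'S : ∀ C ∈ S', C ∈ S := fun C hC =>
    (Set.Finite.mem_toFinset _).1 (Finset.mem_filter.1 hC).1
  have hAS' : A ⊆ ⋃₀ (S' : Set (Set Ω)) := by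
    intro a ha
    have : a ∈ ⋃₀ S := by rw [← hSU]; exact subset_closure ha
    obtain ⟨C, hCS, haC⟩ := this
    refine ⟨C, ?_, haC⟩
    exact Finset.mem_coe.2 (Finset.mem_filter.2
      ⟨(Set.Finite.mem_toFinset _).2 hCS, ⟨a, haC, hAF a ha⟩⟩)
  have hclosed : IsClosed (⋃₀ (S' : Set (Set Ω))) := by
    rw [Set.sUnion_eq_biUnion]
    exact Set.Finite.isClosed_biUnion (Finset.finite_toSet _) fun C hC => hSclosed C (hS'S C hC)
  have hcl : closure A ⊆ ⋃₀ (S' : Set (Set Ω)) := closure_minimal hAS' hclosed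
  obtain ⟨C, hCS', hZC⟩ := isIrreducible_iff_sUnion_isClosed.1 Z.isIrreducible S'
    (fun C hC => hSclosed C (hS'S C hC)) (hZ.trans hcl)
  refine ⟨⟨C, hSirr C (hS'S C hCS'), hSclosed C (hS'S C hCS')⟩, hZC, ?_,
    (Finset.mem_filter.1 hCS').2⟩
  show C ⊆ closure A
  rw [hSU]
  exact Set.subset_sUnion_of_mem (hS'S C hCS')

theorem exists_indep_of_finrank (x : MaximalSpectrum R) {h : ℕ} (s : Fin h → M)
    (hs : LinearIndependent (R ⧸ x.asIdeal) (fun i => img x (s i))) (k : ℕ)
    (hdim : h + k ≤ Module.finrank (R ⧸ x.asIdeal)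
      ((M ⧸ (x.asIdeal • ⊤ : Submodule R M)) ⧸ Bq (M := M) x)) :
    ∃ w : Fin k → M, LinearIndependent (kx x) (fun b => qK s x (w b)) := by
  classical
  rcases Nat.eq_zero_or_pos k with rfl | hk
  · exact ⟨Fin.elim0, linearIndependent_empty_type⟩
  · haveI : Module.Finite (R ⧸ x.asIdeal)
        ((M ⧸ (x.asIdeal • ⊤ : Submodule R M)) ⧸ Bq (M := M) x) :=
      Module.finite_of_finrank_pos (by omega)
    set S' : Submodule (R ⧸ x.asIdeal) ((M ⧸ (x.asIdeal • ⊤ : Submodule R M)) ⧸ Bq (M := M) x) :=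
      Submodule.span (R ⧸ x.asIdeal) (Set.range fun i => img x (s i)) with hS'
    have h1 := Submodule.finrank_quotient_add_finrank S'
    have h2 : Module.finrank (R ⧸ x.asIdeal) S' = h := by
      rw [hS', finrank_span_eq_card hs, Fintype.card_fin]
    obtain ⟨f, hf⟩ := exists_linearIndependent_of_le_finrank
      (R := R ⧸ x.asIdeal) (M := _ ⧸ S') (n := k) (by omega)
    choose w' hw' using fun b => S'.mkQ_surjective (f b)
    choose w hw using fun b => img_surjective (M := M) x (w' b)
    refine ⟨w, ?_⟩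
    have hf' : LinearIndependent (R ⧸ x.asIdeal) (fun b => S'.mkQ (img x (w b))) := by
      convert hf using 1
      funext b
      rw [hw, hw']
    have h3 : LinearIndependent (R ⧸ x.asIdeal)
        (Sum.elim (fun i => img x (s i)) (fun b => img x (w b))) :=
      (li_sum_iff_quotient S' _ _ hS' hs).2 hf'
    have h4 : LinearIndependent (R ⧸ x.asIdeal)
        (fun j : Fin h ⊕ Fin k => img x (Sum.elim s w j)) := by
      convert h3 using 1
      funext j
      cases j <;> rfl
    rw [li_img_iff] at h4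
    have h5 : LinearIndependent (R ⧸ x.asIdeal)
        (Sum.elim (fun i => evK x (s i)) (fun b => evK x (w b))) := by
      convert h4 using 1
      funext j
      cases j <;> rfl
    have hs' : LinearIndependent (R ⧸ x.asIdeal) (fun i => evK x (s i)) :=
      (li_img_iff x s).1 hs
    exact (li_sum_iff_quotient (Sx s x) _ _ rfl hs').1 h5

theorem exists_crt {n : ℕ} (xs : Fin n → MaximalSpectrum R) (hxs : Function.Injective xs)
    (v : ∀ i : Fin n, M ⧸ ((xs i).asIdeal • ⊤ : Submodule R M)) :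
    ∃ t₀ : M, ∀ i, ((xs i).asIdeal • ⊤ : Submodule R M).mkQ t₀ = v i := by
  classical
  choose m hm using fun i => ((xs i).asIdeal • ⊤ : Submodule R M).mkQ_surjective (v i)
  have hcop : Pairwise (IsCoprime on fun i : Fin n => (xs i).asIdeal) := by
    intro i j hne
    refine Ideal.isCoprime_of_isMaximal ?_
    intro heq
    exact hne (hxs (MaximalSpectrum.ext heq))
  have h2 : ∀ i : Fin n, ∃ e : R, ∀ j : Fin n,
      e - (if j = i then (1 : R) else 0) ∈ (xs j).asIdeal := fun i =>
    Ideal.exists_forall_sub_mem_ideal hcop (fun j => if j = i then (1 : R) else 0)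
  choose e he using h2
  refine ⟨∑ i, e i • m i, fun j => ?_⟩
  rw [← hm j, ← sub_eq_zero, ← map_sub, Submodule.mkQ_apply, Submodule.Quotient.mk_eq_zero]
  have : ∑ i, e i • m i - m j = ∑ i, (e i - (if j = i then (1 : R) else 0)) • m i := by
    simp only [sub_smul, Finset.sum_sub_distrib, ite_smul, one_smul, zero_smul,
      Finset.sum_ite_eq, Finset.mem_univ, if_true]
  rw [this]
  exact Submodule.sum_mem _ fun i _ => Submodule.smul_mem_smul (he i j) Submodule.mem_top

theorem mkQ_smul_eq_zero (x : MaximalSpectrum R) (c : R) (hc : c ∈ x.asIdeal) (m : M) :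
    (x.asIdeal • ⊤ : Submodule R M).mkQ (c • m) = 0 := by
  rw [Submodule.mkQ_apply, Submodule.Quotient.mk_eq_zero]
  exact Submodule.smul_mem_smul hc Submodule.mem_top

end

end Groth.Agent.Lib.Helper39.Serre
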