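import Groth.Agent.Lib.Helper39.Serre.LinAlg

/-! Independence of finitely many vectors in a function space is detected by a minor. -/

namespace Groth.Agent.Lib.Helper39.Serre

open Module

variable {K : Type*} [Field K] {ν : Type*}

theorem li_of_det {w : ℕ} (Y : Fin w → (ν → K)) (r : Fin w → ν)
    (hdet : (Matrix.of fun a b => Y b (r a)).det ≠ 0) : LinearIndependent K Y := by
  classical
  have hunit : IsUnit (Matrix.of fun a b => Y b (r a)) := by
    rw [Matrix.isUnit_iff_isUnit_det]
    exact isUnit_iff_ne_zero.2 hdet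
  have hli := Matrix.linearIndependent_cols_iff_isUnit.2 hunit
  refine LinearIndependent.of_comp (LinearMap.funLeft K K r) ?_
  convert hli using 1
  ext b a'
  rfl

theorem exists_det_of_li_fintype [Fintype ν] {w : ℕ} (Y : Fin w → (ν → K))
    (hli : LinearIndependent K Y) :
    ∃ r : Fin w → ν, (Matrix.of fun a b => Y b (r a)).det ≠ 0 := by
  classical
  have hrank : (Matrix.of fun (b : Fin w) (i : ν) => Y b i).rank = w := by
    have := LinearIndependent.rank_matrix (M := Matrix.of fun (b : Fin w) (i : ν) => Y b i) hli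
    rwa [Fintype.card_fin] at this
  rw [Matrix.rank_eq_finrank_span_cols] at hrank
  obtain ⟨κ'', a'', ha'', hspan'', hli''⟩ := exists_linearIndependent' K
    (Matrix.of fun (b : Fin w) (i : ν) => Y b i).col
  have : Finite κ'' := Finite.of_injective a'' ha''
  haveI : Fintype κ'' := Fintype.ofFinite κ''
  have hcard'' : Fintype.card κ'' = w := by
    rw [linearIndependent_iff_card_eq_finrank_span.1 hli'', Set.finrank, hspan'', hrank]
  let e : κ'' ≃ Fin w := Fintype.equivFinOfCardEq hcard''
  have hli3 : LinearIndependent K (fun a' : Fin w =>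
      (Matrix.of fun (b : Fin w) (i : ν) => Y b i).col (a'' (e.symm a'))) :=
    hli''.comp e.symm e.symm.injective
  refine ⟨fun a' => a'' (e.symm a'), ?_⟩
  have hunit : IsUnit (Matrix.of fun a' b => Y b (a'' (e.symm a'))) := by
    refine Matrix.linearIndependent_rows_iff_isUnit.1 ?_
    convert hli3 using 1
    ext b a'
    rfl
  rw [Matrix.isUnit_iff_isUnit_det] at hunit
  exact hunit.ne_zero

/-- Finitely many coordinates suffice to detect independence. -/
theorem exists_finset_li {w : ℕ} (Y : Fin w → (ν → K)) (hli : LinearIndependent K Y) :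
    ∃ Φ : Finset ν, LinearIndependent K (fun b => fun φ : Φ => Y b φ) := by
  classical
  let ℓ : ν → ((Fin w → K) →ₗ[K] K) := fun φ =>
    (LinearMap.proj φ) ∘ₗ Fintype.linearCombination K Y
  have hℓ : ∀ φ g, ℓ φ g = ∑ b, g b * Y b φ := by
    intro φ g
    simp [ℓ, Fintype.linearCombination_apply]
  let N : Finset ν → Submodule K (Fin w → K) := fun Φ => ⨅ φ ∈ Φ, LinearMap.ker (ℓ φ)
  have hN : ∀ Φ g, g ∈ N Φ ↔ ∀ φ ∈ Φ, ∑ b, g b * Y b φ = 0 := by
    intro Φ g
    simp only [N, Submodule.mem_iInf, LinearMap.mem_ker, hℓ]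
  have key : ∀ n : ℕ, ∀ Φ : Finset ν, finrank K (N Φ) = n → ∃ Φ' : Finset ν, N Φ' = ⊥ := by
    intro n
    induction n using Nat.strong_induction_on with
    | _ n ih =>
      intro Φ hΦ
      by_cases hbot : N Φ = ⊥
      · exact ⟨Φ, hbot⟩
      · obtain ⟨g, hgN, hg0⟩ := Submodule.exists_mem_ne_zero_of_ne_bot hbot
        have hsum : ∑ b, g b • Y b ≠ 0 := by
          intro h0
          exact hg0 (funext fun i => (Fintype.linearIndependent_iff.1 hli g h0 i))
        obtain ⟨φ, hφ⟩ : ∃ φ, (∑ b, g b • Y b) φ ≠ 0 := by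
          by_contra hcon
          push Not at hcon
          exact hsum (funext hcon)
        have hφ' : ∑ b, g b * Y b φ ≠ 0 := by
          simpa [Finset.sum_apply] using hφ
        have hle : N (insert φ Φ) ≤ N Φ := by
          intro g' hg'
          rw [hN] at hg' ⊢
          exact fun ψ hψ => hg' ψ (Finset.mem_insert_of_mem hψ)
        have hlt : N (insert φ Φ) < N Φ := by
          refine lt_of_le_of_ne hle ?_
          intro heq
          rw [← heq, hN] at hgN
          exact hφ' (hgN φ (Finset.mem_insert_self _ _))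
        have := Submodule.finrank_lt_finrank_of_lt hlt
        exact ih _ (hΦ ▸ this) _ rfl
  obtain ⟨Φ, hΦ⟩ := key _ ∅ rfl
  refine ⟨Φ, ?_⟩
  rw [Fintype.linearIndependent_iff]
  intro g hg i
  have hgN : g ∈ N Φ := by
    rw [hN]
    intro φ hφ
    have := congrFun hg ⟨φ, hφ⟩
    simpa [Finset.sum_apply] using this
  rw [hΦ] at hgN
  rw [(Submodule.mem_bot K).1 hgN]
  rfl

theorem exists_det_of_li {w : ℕ} (Y : Fin w → (ν → K)) (hli : LinearIndependent K Y) :
    ∃ r : Fin w → ν, (Matrix.of fun a b => Y b (r a)).det ≠ 0 := by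
  classical
  obtain ⟨Φ, hΦ⟩ := exists_finset_li Y hli
  obtain ⟨r, hr⟩ := exists_det_of_li_fintype (fun b => fun φ : Φ => Y b φ) hΦ
  exact ⟨fun a => (r a : ν), hr⟩

theorem li_iff_exists_det {w : ℕ} (Y : Fin w → (ν → K)) :
    LinearIndependent K Y ↔ ∃ r : Fin w → ν, (Matrix.of fun a b => Y b (r a)).det ≠ 0 :=
  ⟨exists_det_of_li Y, fun ⟨r, hr⟩ => li_of_det Y r hr⟩

/-- Version for an arbitrary finite index type. -/
theorem li_iff_exists_det' {n : Type*} [Fintype n] [DecidableEq n] (Y : n → (ν → K)) :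
    LinearIndependent K Y ↔ ∃ r : n → ν, (Matrix.of fun a b => Y b (r a)).det ≠ 0 := by
  classical
  let e : n ≃ Fin (Fintype.card n) := Fintype.equivFin n
  rw [← linearIndependent_equiv e.symm, li_iff_exists_det]
  constructor
  · rintro ⟨r, hr⟩
    refine ⟨r ∘ e, ?_⟩
    have : (Matrix.of fun a b => Y b ((r ∘ e) a)) =
        (Matrix.of fun a b => (Y ∘ e.symm) b (r a)).submatrix e e := by
      ext a b
      simp
    rw [this, Matrix.det_submatrix_equiv_self]
    exact hr
  · rintro ⟨r, hr⟩
    refine ⟨r ∘ e.symm, ?_⟩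
    have : (Matrix.of fun a b => (Y ∘ e.symm) b ((r ∘ e.symm) a)) =
        (Matrix.of fun a b => Y b (r a)).submatrix e.symm e.symm := by
      ext a b
      simp
    rw [this, Matrix.det_submatrix_equiv_self]
    exact hr

end Groth.Agent.Lib.Helper39.Serre
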