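import Mathlib

/-! The topological induction step of the Eisenbud–Evans/Serre argument, in codimension form. -/

namespace Groth.Agent.Lib.Helper39.Serre

open TopologicalSpace

variable {Ω : Type*} [TopologicalSpace Ω]

/-- The basic-ness hypothesis in codimension `< k`, on the open set `U`. -/
def HypT (U : Set Ω) (k u : ℕ) (ρ : Ω → ℕ) : Prop :=
  ∀ (W : IrreducibleCloseds Ω) (c : ℕ), Order.coheight W = (c : ℕ∞) → c < k →
    ((W : Set Ω) ∩ U).Nonempty → ∃ x ∈ (W : Set Ω) ∩ U, u ≤ ρ x ∨ k ≤ c + ρ x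

theorem step_top [NoetherianSpace Ω] (U : Set Ω) (k v : ℕ) (ρ : Ω → ℕ)
    (hopen : ∀ r, IsOpen {x | x ∈ U ∧ r ≤ ρ x})
    (hyp : HypT U k (v + 1) ρ) :
    ∃ B : Finset Ω, (∀ x ∈ B, x ∈ U ∧ ρ x ≤ v) ∧
      ∀ ρ' : Ω → ℕ, (∀ x, ρ x ≤ ρ' x + 1) → (∀ x ∈ B, ρ x ≤ ρ' x) → HypT U k v ρ' := by
  classical
  let Bad : Set (IrreducibleCloseds Ω) := {W | ∃ c r : ℕ, Order.coheight W = (c : ℕ∞) ∧ c < k ∧
    r ≤ v ∧ k = c + r ∧ ((W : Set Ω) ∩ U).Nonempty ∧ ∀ x ∈ (W : Set Ω) ∩ U, ρ x ≤ r}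
  -- decomposition of the closed rank loci
  have hD : ∀ r : ℕ, IsClosed ({x | x ∈ U ∧ r + 1 ≤ ρ x}ᶜ : Set Ω) :=
    fun r => (hopen (r + 1)).isClosed_compl
  choose S hSfin hSclosed hSirr hSU using fun r =>
    NoetherianSpace.exists_finite_set_isClosed_irreducible (hD r)
  have hBadfin : Bad.Finite := by
    have hfin : (⋃ r ∈ Finset.range (v + 1), S r).Finite :=
      Set.Finite.biUnion (Finset.finite_toSet _) fun r _ => hSfin r
    refine (hfin.preimage (f := fun W : IrreducibleCloseds Ω => (W : Set Ω))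
      (SetLike.coe_injective.injOn)).subset ?_
    rintro W ⟨c, r, hc, hck, hrv, hkcr, hne, hle⟩
    simp only [Set.mem_preimage, Set.mem_iUnion, Finset.mem_range, exists_prop]
    refine ⟨r, by omega, ?_⟩
    have hWD : (W : Set Ω) ⊆ ⋃₀ S r := by
      rw [← hSU r]
      intro x hx hx'
      have := hle x ⟨hx, hx'.1⟩
      have := hx'.2
      omega
    obtain ⟨z, hzS, hWz⟩ := isIrreducible_iff_sUnion_isClosed.1 W.isIrreducible
      (hSfin r).toFinset (fun z hz => hSclosed r z ((Set.Finite.mem_toFinset _).1 hz))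
      (by simpa using hWD)
    have hzS' : z ∈ S r := (Set.Finite.mem_toFinset _).1 hzS
    by_contra hne'
    let W' : IrreducibleCloseds Ω := ⟨z, hSirr r z hzS', hSclosed r z hzS'⟩
    have hlt : W < W' := by
      refine lt_of_le_of_ne (show (W : Set Ω) ⊆ (W' : Set Ω) from hWz) ?_
      intro heq
      apply hne'
      rw [heq]
      exact hzS'
    have hco := Order.coheight_add_one_le hlt
    rw [hc] at hco
    have hfin' : Order.coheight W' ≠ ⊤ := by
      intro htop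
      rw [htop] at hco
      simp at hco
    obtain ⟨c', hc'⟩ := ENat.ne_top_iff_exists.1 hfin'
    have hc'c : c' + 1 ≤ c := by
      rw [← hc'] at hco
      exact_mod_cast hco
    obtain ⟨x, ⟨hxz, hxU⟩, hx⟩ := hyp W' c' hc'.symm (by omega)
      (hne.mono (Set.inter_subset_inter_left _ hWz))
    have hxD : x ∈ ({x | x ∈ U ∧ r + 1 ≤ ρ x}ᶜ : Set Ω) := by
      rw [hSU r]
      exact ⟨z, hzS', hxz⟩
    have hxr : ρ x ≤ r := by
      by_contra hcon
      exact hxD ⟨hxU, by omega⟩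
    omega
  -- chosen points
  have hpt : ∀ W ∈ Bad, ∃ x, x ∈ (W : Set Ω) ∩ U ∧ ρ x ≤ v ∧
      ∀ c : ℕ, Order.coheight W = (c : ℕ∞) → k ≤ c + ρ x := by
    rintro W ⟨c, r, hc, hck, hrv, hkcr, hne, hle⟩
    obtain ⟨x, hxW, hx⟩ := hyp W c hc hck hne
    have hxr := hle x hxW
    refine ⟨x, hxW, by omega, ?_⟩
    intro c₂ hc₂
    have : c₂ = c := by
      rw [hc] at hc₂
      exact_mod_cast hc₂.symm
    omega
  refine ⟨hBadfin.toFinset.attach.image
    (fun W => Classical.choose (hpt W.1 ((Set.Finite.mem_toFinset _).1 W.2))), ?_, ?_⟩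
  · intro x hx
    rw [Finset.mem_image] at hx
    obtain ⟨W, _, rfl⟩ := hx
    have := Classical.choose_spec (hpt W.1 ((Set.Finite.mem_toFinset _).1 W.2))
    exact ⟨this.1.2, this.2.1⟩
  · intro ρ' h1 hB W c hc hck hne
    by_cases hbad : W ∈ Bad
    · have hmem : W ∈ hBadfin.toFinset := (Set.Finite.mem_toFinset _).2 hbad
      have hspec := Classical.choose_spec (hpt W hbad)
      set x := Classical.choose (hpt W hbad) with hxdef
      have hxB : x ∈ hBadfin.toFinset.attach.image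
          (fun W => Classical.choose (hpt W.1 ((Set.Finite.mem_toFinset _).1 W.2))) := by
        rw [Finset.mem_image]
        exact ⟨⟨W, hmem⟩, Finset.mem_attach _ _, rfl⟩
      refine ⟨x, hspec.1, Or.inr ?_⟩
      have h2 := hB x hxB
      have h3 := hspec.2.2 c hc
      omega
    · obtain ⟨x₁, hx₁W, hx₁⟩ := hyp W c hc hck hne
      rcases hx₁ with h | h
      · exact ⟨x₁, hx₁W, Or.inl (by have := h1 x₁; omega)⟩
      · by_cases hlt : k < c + ρ x₁
        · exact ⟨x₁, hx₁W, Or.inr (by have := h1 x₁; omega)⟩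
        · have heq : k = c + ρ x₁ := by omega
          by_cases hv : v + 1 ≤ ρ x₁
          · exact ⟨x₁, hx₁W, Or.inl (by have := h1 x₁; omega)⟩
          · have hnb : ¬ ∀ x ∈ (W : Set Ω) ∩ U, ρ x ≤ ρ x₁ := by
              intro hall
              exact hbad ⟨c, ρ x₁, hc, hck, by omega, heq, hne, hall⟩
            push Not at hnb
            obtain ⟨x₂, hx₂W, hx₂⟩ := hnb
            exact ⟨x₂, hx₂W, Or.inr (by have := h1 x₂; omega)⟩

end Groth.Agent.Lib.Helper39.Serre
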