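import Groth.Agent.Lib.Helper39.Serre.Minor
import Groth.Agent.Lib.Helper39.Serre.Top

/-! Evaluation of module elements at closed points, relative ranks, and their properties. -/

namespace Groth.Agent.Lib.Helper39.Serre

universe u

open Module Function

noncomputable section

variable {R : Type u} [CommRing R] {M : Type u} [AddCommGroup M] [Module R M]

/-- The residue field at a closed point. -/
abbrev kx (x : MaximalSpectrum R) : Type u := R ⧸ x.asIdeal

/-- The residue field at a closed point is a field. -/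
instance instFieldKx (x : MaximalSpectrum R) : Field (R ⧸ x.asIdeal) :=
  Ideal.Quotient.field x.asIdeal

/-- Evaluation of an element at a closed point: a function on linear forms. -/
def evK (x : MaximalSpectrum R) (m : M) : (M →ₗ[R] R) → kx x :=
  fun φ => Ideal.Quotient.mk x.asIdeal (φ m)

theorem evK_add (x : MaximalSpectrum R) (m m' : M) : evK x (m + m') = evK x m + evK x m' := by
  funext φ
  simp [evK]

theorem evK_smul (x : MaximalSpectrum R) (a : R) (m : M) :
    evK x (a • m) = Ideal.Quotient.mk x.asIdeal a • evK x m := by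
  funext φ
  simp [evK]

theorem evK_zero (x : MaximalSpectrum R) : evK x (0 : M) = 0 := by
  funext φ
  simp [evK]

theorem evK_sum (x : MaximalSpectrum R) {ι : Type*} (t : Finset ι) (f : ι → M) :
    evK x (∑ i ∈ t, f i) = ∑ i ∈ t, evK x (f i) := by
  classical
  induction t using Finset.induction_on with
  | empty => simp [evK_zero]
  | insert a t ha ih => rw [Finset.sum_insert ha, Finset.sum_insert ha, evK_add, ih]

/-- The span of the fixed family at a closed point. -/
def Sx {h : ℕ} (s : Fin h → M) (x : MaximalSpectrum R) :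
    Submodule (kx x) ((M →ₗ[R] R) → kx x) :=
  Submodule.span (kx x) (Set.range fun i => evK x (s i))

/-- Evaluation modulo the fixed family. -/
def qK {h : ℕ} (s : Fin h → M) (x : MaximalSpectrum R) (m : M) :
    ((M →ₗ[R] R) → kx x) ⧸ Sx s x :=
  (Sx s x).mkQ (evK x m)

theorem qK_add {h : ℕ} (s : Fin h → M) (x : MaximalSpectrum R) (m m' : M) :
    qK s x (m + m') = qK s x m + qK s x m' := by
  simp only [qK, evK_add, map_add]

theorem qK_smul {h : ℕ} (s : Fin h → M) (x : MaximalSpectrum R) (a : R) (m : M) :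
    qK s x (a • m) = Ideal.Quotient.mk x.asIdeal a • qK s x m := by
  simp only [qK, evK_smul, map_smul]

theorem qK_zero {h : ℕ} (s : Fin h → M) (x : MaximalSpectrum R) : qK s x (0 : M) = 0 := by
  simp only [qK, evK_zero, map_zero]

theorem qK_sum {h : ℕ} (s : Fin h → M) (x : MaximalSpectrum R) {ι : Type*} (t : Finset ι)
    (f : ι → M) : qK s x (∑ i ∈ t, f i) = ∑ i ∈ t, qK s x (f i) := by
  simp only [qK, evK_sum, map_sum]

/-- The relative rank of a family at a closed point. -/
def rho {h : ℕ} (s : Fin h → M) (x : MaximalSpectrum R) {J : Type*} (y : J → M) : ℕ :=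
  rkV (kx x) (fun j => qK s x (y j))

/-- Distribute the last element over the others. -/
def modif {v : ℕ} (y : Fin (v + 1) → M) (a : Fin v → R) : Fin v → M :=
  fun j => y (Fin.castSucc j) + a j • y (Fin.last v)

theorem qK_modif {h : ℕ} (s : Fin h → M) (x : MaximalSpectrum R) {v : ℕ}
    (y : Fin (v + 1) → M) (a : Fin v → R) :
    (fun j => qK s x (modif y a j)) =
      modifV (fun j => qK s x (y j)) (fun j => Ideal.Quotient.mk x.asIdeal (a j)) := by
  funext j
  simp only [modif, modifV, qK_add, qK_smul]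

theorem rho_le_modif_add_one {h : ℕ} (s : Fin h → M) (x : MaximalSpectrum R) {v : ℕ}
    (y : Fin (v + 1) → M) (a : Fin v → R) : rho s x y ≤ rho s x (modif y a) + 1 := by
  unfold rho
  rw [qK_modif]
  exact rkV_le_modifV_add_one _ _

theorem rho_le_card {h : ℕ} (s : Fin h → M) (x : MaximalSpectrum R) {J : Type*} [Fintype J]
    (y : J → M) : rho s x y ≤ Fintype.card J :=
  rkV_le_card _ _

theorem exists_modif {h : ℕ} (s : Fin h → M) {v : ℕ} (y : Fin (v + 1) → M)
    (B : Finset (MaximalSpectrum R)) (hB : ∀ x ∈ B, rho s x y ≤ v) :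
    ∃ a : Fin v → R, ∀ x ∈ B, rho s x y ≤ rho s x (modif y a) := by
  classical
  have h1 : ∀ x : B, ∃ a : Fin v → R, (fun j => qK s x.1 (y j)) (Fin.last v) ∈
      Submodule.span (kx x.1) (Set.range (modifV (fun j => qK s x.1 (y j))
        (fun j => Ideal.Quotient.mk x.1.asIdeal (a j)))) := by
    intro x
    obtain ⟨a, ha⟩ := exists_modifV (K := kx x.1) (fun j => qK s x.1 (y j))
      (Nat.lt_succ_of_le (hB x.1 x.2))
    choose a' ha' using fun j => Ideal.Quotient.mk_surjective (a j)
    refine ⟨a', ?_⟩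
    simp only [ha']
    exact ha
  choose A hA using h1
  have hcop : Pairwise (IsCoprime on fun x : B => x.1.asIdeal) := by
    intro x x' hne
    refine Ideal.isCoprime_of_isMaximal ?_
    intro heq
    exact hne (Subtype.ext (MaximalSpectrum.ext heq))
  have h2 : ∀ j : Fin v, ∃ r : R, ∀ x : B, r - A x j ∈ x.1.asIdeal := fun j =>
    Ideal.exists_forall_sub_mem_ideal hcop (fun x => A x j)
  choose a ha using h2
  refine ⟨a, fun x hx => ?_⟩
  unfold rho
  rw [qK_modif]
  refine rkV_le_modifV_of_mem _ _ ?_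
  have heq : (fun j => Ideal.Quotient.mk x.asIdeal (a j)) =
      fun j => Ideal.Quotient.mk x.asIdeal (A ⟨x, hx⟩ j) := by
    funext j
    exact Ideal.Quotient.eq.2 (ha j ⟨x, hx⟩)
  rw [heq]
  exact hA ⟨x, hx⟩

theorem le_rho_of_det {h : ℕ} (s : Fin h → M) (x : MaximalSpectrum R)
    (hs : LinearIndependent (kx x) (fun i => evK x (s i)))
    {J : Type*} (y : J → M) (r : ℕ) (c : Fin r → J) (φ : Fin h ⊕ Fin r → (M →ₗ[R] R))
    (hdet : (Matrix.of fun a b => φ a (Sum.elim s (fun b => y (c b)) b)).det ∉ x.asIdeal) :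
    ∃ c' : Fin r → J, LinearIndependent (kx x) (fun b => qK s x (y (c' b))) := by
  classical
  refine ⟨c, ?_⟩
  have hli : LinearIndependent (kx x)
      (fun b : Fin h ⊕ Fin r => evK x (Sum.elim s (fun b => y (c b)) b)) := by
    rw [li_iff_exists_det']
    refine ⟨φ, ?_⟩
    have : (Matrix.of fun a b => evK x (Sum.elim s (fun b => y (c b)) b) (φ a)) =
        (Ideal.Quotient.mk x.asIdeal).mapMatrix
          (Matrix.of fun a b => φ a (Sum.elim s (fun b => y (c b)) b)) := by
      ext a b
      rfl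
    rw [this, ← RingHom.map_det]
    rwa [Ne, Ideal.Quotient.eq_zero_iff_mem]
  have hli' : LinearIndependent (kx x)
      (Sum.elim (fun i => evK x (s i)) (fun b => evK x (y (c b)))) := by
    convert hli using 1
    funext b
    cases b <;> rfl
  exact (li_sum_iff_quotient (Sx s x) _ _ rfl hs).1 hli'

theorem exists_det_of_le_rho {h : ℕ} (s : Fin h → M) (x : MaximalSpectrum R)
    (hs : LinearIndependent (kx x) (fun i => evK x (s i)))
    {J : Type*} [Finite J] (y : J → M) (r : ℕ) (hr : r ≤ rho s x y) :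
    ∃ (c : Fin r → J) (φ : Fin h ⊕ Fin r → (M →ₗ[R] R)),
      (Matrix.of fun a b => φ a (Sum.elim s (fun b => y (c b)) b)).det ∉ x.asIdeal := by
  classical
  obtain ⟨c, hc⟩ := (le_rkV_iff (K := kx x) (fun j => qK s x (y j)) r).1 hr
  have hli' : LinearIndependent (kx x)
      (Sum.elim (fun i => evK x (s i)) (fun b => evK x (y (c b)))) :=
    (li_sum_iff_quotient (Sx s x) _ _ rfl hs).2 hc
  have hli : LinearIndependent (kx x)
      (fun b : Fin h ⊕ Fin r => evK x (Sum.elim s (fun b => y (c b)) b)) := by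
    convert hli' using 1
    funext b
    cases b <;> rfl
  rw [li_iff_exists_det'] at hli
  obtain ⟨φ, hφ⟩ := hli
  refine ⟨c, φ, ?_⟩
  have : (Matrix.of fun a b => evK x (Sum.elim s (fun b => y (c b)) b) (φ a)) =
      (Ideal.Quotient.mk x.asIdeal).mapMatrix
        (Matrix.of fun a b => φ a (Sum.elim s (fun b => y (c b)) b)) := by
    ext a b
    rfl
  rw [this, ← RingHom.map_det] at hφ
  rwa [Ne, Ideal.Quotient.eq_zero_iff_mem] at hφ

theorem isOpen_rho {h : ℕ} (s : Fin h → M) (F : Set (MaximalSpectrum R)) (hF : IsClosed F)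
    (hs : ∀ x, x ∉ F → LinearIndependent (kx x) (fun i => evK x (s i)))
    {J : Type*} [Finite J] (y : J → M) (r : ℕ) :
    IsOpen {x : MaximalSpectrum R | x ∈ Fᶜ ∧ r ≤ rho s x y} := by
  classical
  rw [isOpen_iff_forall_mem_open]
  rintro x₀ ⟨hx₀F, hx₀⟩
  obtain ⟨c, φ, hdet⟩ := exists_det_of_le_rho s x₀ (hs x₀ hx₀F) y r hx₀
  refine ⟨{x | (Matrix.of fun a b => φ a (Sum.elim s (fun b => y (c b)) b)).det ∉ x.asIdeal} ∩ Fᶜ,
    ?_, ?_, ⟨hdet, hx₀F⟩⟩
  · rintro x ⟨hx, hxF⟩
    refine ⟨hxF, ?_⟩
    obtain ⟨c', hc'⟩ := le_rho_of_det s x (hs x hxF) y r c φ hx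
    exact (le_rkV_iff (K := kx x) (fun j => qK s x (y j)) r).2 ⟨c', hc'⟩
  · refine IsOpen.inter ?_ hF.isOpen_compl
    exact (PrimeSpectrum.basicOpen
      (Matrix.of fun a b => φ a (Sum.elim s (fun b => y (c b)) b)).det).isOpen.preimage
      MaximalSpectrum.toPrimeSpectrum_continuous

end

end Groth.Agent.Lib.Helper39.Serre
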