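import Groth.Agent.Lib.Helper39.Serre.Final

/-! Serre's splitting theorem over rings with Noetherian maximal spectrum. -/

namespace Groth.Agent.Lib.Helper39.Serre

universe u

open Module Function TopologicalSpace

noncomputable section

variable {R : Type u} [CommRing R] {M : Type u} [AddCommGroup M] [Module R M]

/-- A free direct summand of rank `r` of the localization at a maximal ideal forces
`dim V(x) ≥ r`. -/
theorem le_finrank_of_local_summand [Module.FinitePresentation R M] (x : MaximalSpectrum R)
    (r : ℕ)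
    (f : (Fin r → Localization.AtPrime x.asIdeal) →ₗ[Localization.AtPrime x.asIdeal]
      LocalizedModule x.asIdeal.primeCompl M)
    (g : LocalizedModule x.asIdeal.primeCompl M →ₗ[Localization.AtPrime x.asIdeal]
      (Fin r → Localization.AtPrime x.asIdeal))
    (hgf : g ∘ₗ f = LinearMap.id) :
    r ≤ Module.finrank (R ⧸ x.asIdeal)
      ((M ⧸ (x.asIdeal • ⊤ : Submodule R M)) ⧸ Bq (M := M) x) := by
  classical
  set S := x.asIdeal.primeCompl with hS
  -- the functionals
  have h1 : ∀ j : Fin r, ∃ (φ : M →ₗ[R] R) (σ : S),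
      (Algebra.linearMap R (Localization.AtPrime x.asIdeal)) ∘ₗ φ =
        σ • ((((LinearMap.proj j : (Fin r → Localization.AtPrime x.asIdeal) →ₗ[_] _) ∘ₗ
          g).restrictScalars R) ∘ₗ LocalizedModule.mkLinearMap S M) := fun j =>
    Module.FinitePresentation.exists_lift_of_isLocalizedModule S
      (Algebra.linearMap R (Localization.AtPrime x.asIdeal)) _
  choose φ σ hφ using h1
  -- the elements
  have h2 : ∀ i : Fin r, ∃ p : M × S,
      p.2 • f (Pi.single i 1) = LocalizedModule.mkLinearMap S M p.1 := fun i =>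
    IsLocalizedModule.surj S (LocalizedModule.mkLinearMap S M) _
  choose p hp using h2
  have key : ∀ i j : Fin r, algebraMap R (Localization.AtPrime x.asIdeal) (φ j (p i).1) =
      if i = j then algebraMap R (Localization.AtPrime x.asIdeal) ((σ j : R) * ((p i).2 : R))
      else 0 := by
    intro i j
    have := LinearMap.congr_fun (hφ j) (p i).1
    simp only [LinearMap.coe_comp, Function.comp_apply, Algebra.linearMap_apply,
      LinearMap.smul_apply, LinearMap.coe_restrictScalars, LinearMap.proj_apply] at this
    rw [this, ← hp i, LinearMap.map_smul_of_tower]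
    have hgf' : g (f (Pi.single i 1)) = Pi.single i 1 := LinearMap.congr_fun hgf _
    rw [hgf']
    simp only [Submonoid.smul_def, Pi.smul_apply, Pi.single_apply, smul_eq_mul]
    by_cases hij : i = j
    · subst hij
      simp [Algebra.smul_def, mul_comm]
    · have hji : ¬ j = i := fun h => hij h.symm
      simp [hij, hji]
  have hdiag : ∀ i, φ i (p i).1 ∉ x.asIdeal := by
    intro i
    have h := key i i
    rw [if_pos rfl] at h
    have hunit : IsUnit (algebraMap R (Localization.AtPrime x.asIdeal) (φ i (p i).1)) := by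
      rw [h]
      exact IsLocalization.map_units _ ((σ i) * (p i).2)
    exact (IsLocalization.AtPrime.isUnit_to_map_iff _ x.asIdeal _).1 hunit
  have hoff : ∀ i j, i ≠ j → φ j (p i).1 ∈ x.asIdeal := by
    intro i j hij
    have h := key i j
    rw [if_neg hij] at h
    by_contra hcon
    have hunit : IsUnit (algebraMap R (Localization.AtPrime x.asIdeal) (φ j (p i).1)) :=
      (IsLocalization.AtPrime.isUnit_to_map_iff _ x.asIdeal _).2 hcon
    rw [h] at hunit
    exact not_isUnit_zero hunit
  have hli : LinearIndependent (kx x) (fun i => evK x (p i).1) := by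
    refine li_of_det _ φ ?_
    have hmat : (Matrix.of fun a b => evK x (p b).1 (φ a)) =
        Matrix.diagonal (fun i => Ideal.Quotient.mk x.asIdeal (φ i (p i).1)) := by
      ext a b
      by_cases hab : a = b
      · subst hab
        simp [evK]
      · rw [Matrix.diagonal_apply_ne _ hab]
        show Ideal.Quotient.mk x.asIdeal (φ a (p b).1) = 0
        rw [Ideal.Quotient.eq_zero_iff_mem]
        exact hoff b a (fun h => hab h.symm)
    rw [hmat, Matrix.det_diagonal, Finset.prod_ne_zero_iff]
    intro i _
    rw [Ne, Ideal.Quotient.eq_zero_iff_mem]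
    exact hdiag i
  have hli' : LinearIndependent (R ⧸ x.asIdeal) (fun i => img x (p i).1) :=
    (li_img_iff x _).2 hli
  have := hli'.fintype_card_le_finrank
  rwa [Fintype.card_fin] at this

theorem serre_splitting_max [NoetherianSpace (MaximalSpectrum R)] (d : ℕ)
    (hdim : topologicalKrullDim (MaximalSpectrum R) ≤ d) [Module.FinitePresentation R M]
    (hM : ∀ x : MaximalSpectrum R,
      (d + 1) ≤ Module.finrank (R ⧸ x.asIdeal)
        ((M ⧸ (x.asIdeal • ⊤ : Submodule R M)) ⧸ Bq (M := M) x)) :
    ∃ (s : M) (φ : M →ₗ[R] R), φ s = 1 := by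
  classical
  obtain ⟨t, F', hF', -, hb, hc⟩ := serre_main (R := R) (M := M) 0 Fin.elim0 ∅ isClosed_empty 0
    Fin.elim0 (fun i => i.elim0) (fun i => i.elim0) (fun i => i.elim0) (d + 1)
    (fun x => by rw [zero_add]; exact hM x)
    (fun x hx => (hx linearIndependent_empty_type).elim)
  have hF'empty : F' = ∅ := by
    rw [Set.eq_empty_iff_forall_notMem]
    intro x hx
    let Z : IrreducibleCloseds (MaximalSpectrum R) :=
      ⟨{x}, isIrreducible_singleton, isClosed_singleton⟩
    have h1 := hc Z (by simpa [Z] using hx)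
    have h2 : (Order.coheight Z : WithBot ℕ∞) ≤ topologicalKrullDim (MaximalSpectrum R) :=
      Order.coheight_le_krullDim Z
    have h3 : ((d + 1 : ℕ) : WithBot ℕ∞) ≤ (d : WithBot ℕ∞) := by
      refine le_trans ?_ (h2.trans hdim)
      exact_mod_cast h1
    have h4 : d + 1 ≤ d := by exact_mod_cast h3
    omega
  have hne : ∀ x : MaximalSpectrum R, ∃ φ : M →ₗ[R] R, φ t ∉ x.asIdeal := by
    intro x
    by_contra hcon
    push Not at hcon
    have h0 : img x t = 0 := (img_eq_zero_iff x t).2 hcon
    have hli : LinearIndependent (R ⧸ x.asIdeal)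
        (Fin.snoc (fun i : Fin 0 => img x ((Fin.elim0 : Fin 0 → M) i)) (img x t)) := by
      by_contra hnl
      have := hb x hnl
      rw [hF'empty] at this
      simpa using this
    have := hli.ne_zero (Fin.last 0)
    rw [Fin.snoc_last] at this
    exact this h0
  -- the order ideal of `t` is the unit ideal
  let O : Ideal R := LinearMap.range (LinearMap.applyₗ t : (M →ₗ[R] R) →ₗ[R] R)
  have hO : O = ⊤ := by
    by_contra hOne
    obtain ⟨m, hm, hOm⟩ := Ideal.exists_le_maximal O hOne
    obtain ⟨φ, hφ⟩ := hne ⟨m, hm⟩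
    exact hφ (hOm ⟨φ, rfl⟩)
  have h1 : (1 : R) ∈ O := by rw [hO]; trivial
  obtain ⟨φ, hφ⟩ := h1
  exact ⟨t, φ, hφ⟩

end

end Groth.Agent.Lib.Helper39.Serre
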