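import Groth.Agent.Lib.Helper39.Serre.Core

/-! Translation between the quotient spaces `V(x) = M(x)/B(x)` of Serre's theorem and the
evaluation vectors. -/

namespace Groth.Agent.Lib.Helper39.Serre

universe u

open Module Function TopologicalSpace

noncomputable section

variable {R : Type u} [CommRing R] {M : Type u} [AddCommGroup M] [Module R M]

/-- The subspace `B(x)` of `M(x)`. -/
def Bq (x : MaximalSpectrum R) :
    Submodule (R ⧸ x.asIdeal) (M ⧸ (x.asIdeal • ⊤ : Submodule R M)) :=
  Submodule.span (R ⧸ x.asIdeal)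
    ((x.asIdeal • ⊤ : Submodule R M).mkQ '' {m : M | ∀ φ : M →ₗ[R] R, φ m ∈ x.asIdeal})

/-- The image of an element in `V(x)`. -/
def img (x : MaximalSpectrum R) (m : M) : (M ⧸ (x.asIdeal • ⊤ : Submodule R M)) ⧸ Bq (M := M) x :=
  (Bq x).mkQ ((x.asIdeal • ⊤ : Submodule R M).mkQ m)

theorem img_add (x : MaximalSpectrum R) (m m' : M) : img x (m + m') = img x m + img x m' := by
  simp only [img, map_add]

theorem img_zero (x : MaximalSpectrum R) : img x (0 : M) = 0 := by
  simp only [img, map_zero]

theorem img_smul (x : MaximalSpectrum R) (a : R) (m : M) :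
    img x (a • m) = Ideal.Quotient.mk x.asIdeal a • img x m := by
  simp only [img]
  rw [← map_smul]
  rfl

theorem img_sum (x : MaximalSpectrum R) {ι : Type*} (t : Finset ι) (f : ι → M) :
    img x (∑ i ∈ t, f i) = ∑ i ∈ t, img x (f i) := by
  simp only [img, map_sum]

theorem img_surjective (x : MaximalSpectrum R) : Function.Surjective (img (M := M) x) := by
  intro v
  obtain ⟨v', rfl⟩ := (Bq x).mkQ_surjective v
  obtain ⟨m, rfl⟩ := (x.asIdeal • ⊤ : Submodule R M).mkQ_surjective v'
  exact ⟨m, rfl⟩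

theorem apply_mem_of_mem_smul_top (x : MaximalSpectrum R) (φ : M →ₗ[R] R) (m : M)
    (hm : m ∈ (x.asIdeal • ⊤ : Submodule R M)) : φ m ∈ x.asIdeal := by
  refine Submodule.smul_induction_on hm ?_ ?_
  · intro a ha n _
    rw [map_smul]
    exact Ideal.mul_mem_right _ _ ha
  · intro m m' ih ih'
    rw [map_add]
    exact Ideal.add_mem _ ih ih'

theorem img_eq_zero_iff (x : MaximalSpectrum R) (m : M) :
    img x m = 0 ↔ ∀ φ : M →ₗ[R] R, φ m ∈ x.asIdeal := by
  constructor
  · intro h
    rw [img, Submodule.mkQ_apply, Submodule.Quotient.mk_eq_zero] at h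
    have key : ∀ v ∈ Bq (M := M) x, ∃ m' : M, (∀ φ : M →ₗ[R] R, φ m' ∈ x.asIdeal) ∧
        (x.asIdeal • ⊤ : Submodule R M).mkQ m' = v := by
      intro v hv
      induction hv using Submodule.span_induction with
      | mem v hv =>
        obtain ⟨m', hm', rfl⟩ := hv
        exact ⟨m', hm', rfl⟩
      | zero => exact ⟨0, fun φ => by simp, by simp⟩
      | add v v' _ _ ih ih' =>
        obtain ⟨m₁, h₁, rfl⟩ := ih
        obtain ⟨m₂, h₂, rfl⟩ := ih'
        exact ⟨m₁ + m₂, fun φ => by rw [map_add]; exact Ideal.add_mem _ (h₁ φ) (h₂ φ),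
          by rw [map_add]⟩
      | smul a v _ ih =>
        obtain ⟨m₁, h₁, rfl⟩ := ih
        obtain ⟨a', rfl⟩ := Ideal.Quotient.mk_surjective a
        exact ⟨a' • m₁, fun φ => by rw [map_smul]; exact Ideal.mul_mem_left _ _ (h₁ φ), rfl⟩
    obtain ⟨m', hm', heq⟩ := key _ h
    intro φ
    have hsub : m - m' ∈ (x.asIdeal • ⊤ : Submodule R M) := by
      rw [← Submodule.Quotient.mk_eq_zero, Submodule.Quotient.mk_sub]
      simp only [Submodule.mkQ_apply] at heq
      rw [heq, sub_self]
    have := apply_mem_of_mem_smul_top x φ _ hsub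
    rw [map_sub] at this
    have h2 := Ideal.add_mem _ this (hm' φ)
    simpa using h2
  · intro h
    rw [img, Submodule.mkQ_apply, Submodule.Quotient.mk_eq_zero]
    exact Submodule.subset_span ⟨m, h, rfl⟩

theorem evK_eq_zero_iff (x : MaximalSpectrum R) (m : M) :
    evK x m = 0 ↔ ∀ φ : M →ₗ[R] R, φ m ∈ x.asIdeal := by
  constructor
  · intro h φ
    have := congrFun h φ
    simpa [evK, Ideal.Quotient.eq_zero_iff_mem] using this
  · intro h
    funext φ
    simpa [evK, Ideal.Quotient.eq_zero_iff_mem] using h φ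

theorem img_eq_zero_iff_evK (x : MaximalSpectrum R) (m : M) : img x m = 0 ↔ evK x m = 0 := by
  rw [img_eq_zero_iff, evK_eq_zero_iff]

/-- Independence in `V(x)` is independence of evaluation vectors. -/
theorem li_img_iff (x : MaximalSpectrum R) {ι : Type*} [Fintype ι] (z : ι → M) :
    LinearIndependent (R ⧸ x.asIdeal) (fun i => img x (z i)) ↔
      LinearIndependent (R ⧸ x.asIdeal) (fun i => evK x (z i)) := by
  classical
  rw [Fintype.linearIndependent_iff, Fintype.linearIndependent_iff]
  refine forall_congr' fun g => ?_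
  choose a ha using fun i => Ideal.Quotient.mk_surjective (g i)
  have h1 : ∑ i, g i • img x (z i) = img x (∑ i, a i • z i) := by
    rw [img_sum]
    refine Finset.sum_congr rfl fun i _ => ?_
    rw [img_smul, ha]
  have h2 : ∑ i, g i • evK x (z i) = evK x (∑ i, a i • z i) := by
    rw [evK_sum]
    refine Finset.sum_congr rfl fun i _ => ?_
    rw [evK_smul, ha]
  rw [h1, h2, img_eq_zero_iff_evK]

end

end Groth.Agent.Lib.Helper39.Serre
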